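import Groth.Agent.S1376
import Groth.Agent.Lib.RedSep.Basic
import Mathlib.RingTheory.AdjoinRoot
import Mathlib.AlgebraicGeometry.Morphisms.Finite
import Mathlib.FieldTheory.IsAlgClosed.AlgebraicClosure

/-!
A finite surjective cover after which irreducible components lift along a finite surjective morphism.
-/

set_option autoImplicit false

universe u

open CategoryTheory Limits AlgebraicGeometry TopologicalSpace
open scoped Polynomial

set_option backward.isDefEq.respectTransparency false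
set_option linter.style.haveILetI false

noncomputable section

namespace Groth.Agent.CompLift5

/-- A finite algebra with surjective spectrum through which the integral elements split. -/
theorem exists_splitting {A B : Type u} [CommRing A] [CommRing B] [Algebra A B] [Module.Finite A B] :
    ∃ (C : Type u) (_ : CommRing C) (_ : Algebra A C) (_ : Module.Finite A C),
      Function.Surjective (PrimeSpectrum.comap (algebraMap A C)) ∧
      ∀ (D Ω : Type u) [CommRing D] [Field Ω] (γ : C →+* D) (ε : D →+* Ω) (β : B →+* Ω),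
        Function.Injective ε → β.comp (algebraMap A B) = ε.comp (γ.comp (algebraMap A C)) →
          ∀ b : B, β b ∈ ε.range := by
  classical
  rcases subsingleton_or_nontrivial A with hA | hA
  · refine ⟨A, inferInstance, inferInstance, inferInstance, fun p => ?_, ?_⟩
    · exact ⟨p, by ext; simp⟩
    · intro D Ω _ _ γ ε β _ _ b
      have h0 : (1 : Ω) = 0 := by
        rw [← map_one (ε.comp (γ.comp (algebraMap A A))), ← map_zero (ε.comp (γ.comp (algebraMap A A))),
          Subsingleton.elim (1 : A) 0]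
      exact absurd h0 one_ne_zero
  obtain ⟨s, hs⟩ := Module.Finite.fg_top (R := A) (M := B)
  choose P hPm hP using fun b : B => Algebra.IsIntegral.isIntegral (R := A) b
  let Q : A[X] := ∏ b ∈ s, P b
  have hQ : Q.Monic := Polynomial.monic_prod_of_monic _ _ fun b _ => hPm b
  obtain ⟨C, _, _, _, _, _, hC⟩ := hQ.exists_splits_map
  have hinj : Function.Injective (algebraMap A C) := FaithfulSMul.algebraMap_injective A C
  refine ⟨C, inferInstance, inferInstance, inferInstance,
    PrimeSpectrum.comap_surjective_of_faithfullyFlat, ?_⟩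
  intro D Ω _ _ γ ε β hε hcomp b
  haveI : IsDomain D := hε.isDomain _
  have hroot : ∀ c ∈ s, β c ∈ ε.range := by
    intro c hc
    have h1 : Q.eval₂ (ε.comp (γ.comp (algebraMap A C))) (β c) = 0 := by
      rw [← hcomp, ← Polynomial.hom_eval₂]
      have : Polynomial.eval₂ (algebraMap A B) c Q = 0 := by
        obtain ⟨R, hR⟩ := Finset.dvd_prod_of_mem P hc
        show Polynomial.eval₂ (algebraMap A B) c (∏ b ∈ s, P b) = 0
        rw [hR, Polynomial.eval₂_mul, hP c, zero_mul]
      rw [this, map_zero]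
    rw [← Polynomial.eval₂_map, ← Polynomial.map_map,
      (hC.map γ).eq_prod_roots_of_monic ((hQ.map _).map _)] at h1
    rw [Polynomial.eval₂_multiset_prod, Multiset.map_map, Multiset.prod_eq_zero_iff, Multiset.mem_map] at h1
    obtain ⟨r, -, hr⟩ := h1
    simp only [Function.comp_apply, Polynomial.eval₂_sub, Polynomial.eval₂_X, Polynomial.eval₂_C,
      RingHom.comp_apply, sub_eq_zero] at hr
    exact ⟨r, hr.symm⟩
  have hb : b ∈ Submodule.span A (s : Set B) := hs ▸ Submodule.mem_top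
  induction hb using Submodule.span_induction with
  | mem z hz => exact hroot z hz
  | zero => rw [map_zero]; exact zero_mem _
  | add z w _ _ hz hw => rw [map_add]; exact add_mem hz hw
  | smul a z _ hz =>
    rw [Algebra.smul_def, map_mul]
    refine mul_mem ⟨γ (algebraMap A C a), ?_⟩ hz
    exact (RingHom.congr_fun hcomp a).symm

variable {Y F' : Scheme.{u}}

/-- Over an affine open: a finite cover through which points of `F'` over integral schemes become sections. -/
theorem exists_local (p : F' ⟶ Y) [IsFinite p] (U : Y.affineOpens) :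
    ∃ (V : Scheme.{u}) (v : V ⟶ (U.1 : Scheme.{u})), IsFinite v ∧ Surjective v ∧
      ∀ (G : Scheme.{u}) [IsIntegral G] (g : G ⟶ V) (_ : IsFinite (g ≫ v)) (Ω : Type u) [Field Ω]
        (η : Spec (CommRingCat.of Ω) ⟶ G) (_ : IsDominant η) (ζ : Spec (CommRingCat.of Ω) ⟶ F'),
        ζ ≫ p = η ≫ g ≫ v ≫ U.1.ι → ∃ φ : G ⟶ F', φ ≫ p = g ≫ v ≫ U.1.ι ∧ η ≫ φ = ζ := by
  have hU := U.2
  have hU' : IsAffineOpen (p ⁻¹ᵁ U.1) := hU.preimage p
  letI : Algebra Γ(Y, U.1) Γ(F', p ⁻¹ᵁ U.1) := (p.app U.1).hom.toAlgebra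
  haveI : Module.Finite Γ(Y, U.1) Γ(F', p ⁻¹ᵁ U.1) := p.finite_app U.1 hU
  obtain ⟨C, _, _, _, hsurj, hC⟩ := exists_splitting (A := Γ(Y, U.1)) (B := Γ(F', p ⁻¹ᵁ U.1))
  let a : Γ(Y, U.1) ⟶ CommRingCat.of C := CommRingCat.ofHom (algebraMap Γ(Y, U.1) C)
  haveI : IsFinite (Spec.map a) := (IsFinite.SpecMap_iff _).2 (RingHom.finite_algebraMap.2 inferInstance)
  haveI : Surjective (Spec.map a) := ⟨hsurj⟩
  refine ⟨Spec (CommRingCat.of C), Spec.map a ≫ hU.isoSpec.inv, inferInstance, inferInstance, ?_⟩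
  intro G _ g hfin Ω _ η hdom ζ hζ
  haveI : IsFinite (g ≫ Spec.map a) := by
    haveI := hfin
    rw [show g ≫ Spec.map a = (g ≫ Spec.map a ≫ hU.isoSpec.inv) ≫ hU.isoSpec.hom by simp]
    infer_instance
  haveI : IsAffine G := isAffine_of_isAffineHom (g ≫ Spec.map a)
  have hUι : hU.isoSpec.inv ≫ U.1.ι = hU.fromSpec := rfl
  -- the point of `F'` lies over `U`
  have hrange : Set.range ζ ⊆ Set.range hU'.fromSpec := by
    rintro _ ⟨w, rfl⟩
    rw [hU'.range_fromSpec]
    show p (ζ w) ∈ U.1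
    rw [← Scheme.Hom.comp_apply, hζ, Scheme.Hom.comp_apply, Scheme.Hom.comp_apply, Scheme.Hom.comp_apply]
    exact (((Spec.map a ≫ hU.isoSpec.inv) (g (η w))).2)
  let ζ₀ := IsOpenImmersion.lift hU'.fromSpec ζ hrange
  obtain ⟨β, hβ⟩ := Spec.map_surjective ζ₀
  obtain ⟨γ, hγ⟩ := Spec.map_surjective (G.isoSpec.inv ≫ g)
  obtain ⟨ε, hε⟩ := Spec.map_surjective (η ≫ G.isoSpec.hom)
  have hsq : Spec.map (p.app U.1) ≫ hU.fromSpec = hU'.fromSpec ≫ p := by
    rw [Scheme.Hom.app_eq_appLE, IsAffineOpen.SpecMap_appLE_fromSpec p hU hU' le_rfl]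
  have hcomp : (p.app U.1) ≫ β = a ≫ γ ≫ ε := by
    apply Spec.map_injective
    rw [← cancel_mono hU.fromSpec]
    simp only [Spec.map_comp, Category.assoc]
    rw [hsq, hβ, IsOpenImmersion.lift_fac_assoc, hζ, hγ, hε, ← hUι]
    simp
  haveI : IsDominant (Spec.map ε) := by rw [hε]; infer_instance
  have hinj : Function.Injective ε.hom := by
    rw [injective_iff_map_eq_zero]
    intro d hd
    have hden : DenseRange (PrimeSpectrum.comap ε.hom) := (Spec.map ε).denseRange
    have hker : RingHom.ker ε.hom ≤ nilradical _ := (PrimeSpectrum.denseRange_comap_iff_ker_le_nilRadical _).1 hden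
    exact (mem_nilradical.1 (hker hd)).eq_zero
  choose ψ hψ using hC _ Ω γ.hom ε.hom β.hom hinj (congrArg CommRingCat.Hom.hom hcomp)
  let ψ' : Γ(F', p ⁻¹ᵁ U.1) →+* Γ(G, ⊤) :=
    { toFun := ψ
      map_one' := hinj (by rw [hψ, map_one, map_one])
      map_mul' := fun x y => hinj (by rw [hψ, map_mul, map_mul, hψ, hψ])
      map_zero' := hinj (by rw [hψ, map_zero, map_zero])
      map_add' := fun x y => hinj (by rw [hψ, map_add, map_add, hψ, hψ]) }
  have hψε : CommRingCat.ofHom ψ' ≫ ε = β := CommRingCat.hom_ext (RingHom.ext hψ)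
  have hψa : p.app U.1 ≫ CommRingCat.ofHom ψ' = a ≫ γ := by
    refine CommRingCat.hom_ext (RingHom.ext fun x => hinj ?_)
    exact (hψ _).trans (ConcreteCategory.congr_hom hcomp x)
  refine ⟨G.isoSpec.hom ≫ Spec.map (CommRingCat.ofHom ψ') ≫ hU'.fromSpec, ?_, ?_⟩
  · rw [Category.assoc, Category.assoc, ← hsq, ← Spec.map_comp_assoc, hψa, Spec.map_comp, hγ, ← hUι]
    simp
  · rw [← Category.assoc, ← hε, ← Spec.map_comp_assoc, hψε, hβ, IsOpenImmersion.lift_fac]

/-- Finite fibre products of finite surjective covers. -/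
theorem exists_common {ι : Type*} (s : Finset ι) (V : ι → Scheme.{u}) (π : ∀ i, V i ⟶ Y)
    (h1 : ∀ i, IsFinite (π i)) (h2 : ∀ i, Surjective (π i)) :
    ∃ (Y' : Scheme.{u}) (g : Y' ⟶ Y), IsFinite g ∧ Surjective g ∧ ∀ i ∈ s, ∃ q : Y' ⟶ V i, q ≫ π i = g := by
  classical
  induction s using Finset.induction_on with
  | empty => exact ⟨Y, 𝟙 Y, inferInstance, inferInstance, by simp⟩
  | @insert a s _ ih =>
    obtain ⟨Y', g, hg, hg', hq⟩ := ih
    haveI := hg; haveI := hg'; haveI := h1 a; haveI := h2 a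
    refine ⟨pullback g (π a), pullback.fst g (π a) ≫ g, inferInstance, inferInstance, fun i hi => ?_⟩
    rcases Finset.mem_insert.1 hi with rfl | hi
    · exact ⟨pullback.snd g (π i), pullback.condition.symm⟩
    · obtain ⟨q, hq⟩ := hq i hi
      exact ⟨pullback.fst g (π a) ≫ q, by rw [Category.assoc, hq]⟩

/-- Irreducible components lift after a finite surjective cover. -/
theorem exists_cover [IsNoetherian Y] {F : Scheme.{u}} (i : F ⟶ Y) [IsClosedImmersion i]
    (s : F' ⟶ F) [IsFinite s] [Surjective s] :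
    ∃ (Y' : Scheme.{u}) (g : Y' ⟶ Y), IsFinite g ∧ Surjective g ∧
      ∀ (G : Scheme.{u}) (ι : G ⟶ pullback i g) [IsClosedImmersion ι] [AlgebraicGeometry.IsReduced G],
        Set.range ι.base ∈ irreducibleComponents ↥(pullback i g) →
          ∃ φ : G ⟶ F', φ ≫ s = ι ≫ pullback.fst i g := by
  classical
  let p : F' ⟶ Y := s ≫ i
  let 𝒰 := Y.affineCover.finiteSubcover
  let U : 𝒰.I₀ → Y.affineOpens := fun k => ⟨(𝒰.f k).opensRange, isAffineOpen_opensRange _⟩
  choose V v hv1 hv2 hv3 using fun k => exists_local p (U k)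
  choose V' π j hπs hπf hsq using fun k => haveI := hv1 k; haveI := hv2 k
    Groth.Agent.S1376.result (U k).1 (U k).2.isCompact (v k)
  obtain ⟨Y', g, hgf, hgs, hq⟩ := exists_common (Finset.univ : Finset 𝒰.I₀) V' π hπf hπs
  refine ⟨Y', g, hgf, hgs, ?_⟩
  intro G ι _ _ hcomp
  haveI := hgf
  haveI : IrreducibleSpace G := by
    haveI : IrreducibleSpace (Set.range ι) := Subtype.irreducibleSpace hcomp.1
    exact Function.Surjective.irreducibleSpace ι.isEmbedding.toHomeomorph.symm.continuous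
      ι.isEmbedding.toHomeomorph.symm.surjective
  haveI : IsIntegral G := isIntegral_of_irreducibleSpace_of_isReduced _
  let ξ := genericPoint G
  let c : G ⟶ F := ι ≫ pullback.fst i g
  obtain ⟨y, hy⟩ := s.surjective (c ξ)
  obtain ⟨z, hz1, hz2⟩ := Scheme.Pullback.exists_preimage_pullback (f := c) (g := s) ξ y hy.symm
  let Ω := (pullback c s).residueField z
  let η : Spec (CommRingCat.of Ω) ⟶ G := (pullback c s).fromSpecResidueField z ≫ pullback.fst c s
  let ζ : Spec (CommRingCat.of Ω) ⟶ F' := (pullback c s).fromSpecResidueField z ≫ pullback.snd c s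
  have hηs : ζ ≫ s = η ≫ c := by simp [η, ζ, pullback.condition]
  have hηξ : ∀ w, η w = ξ := fun w => by
    show pullback.fst c s ((pullback c s).fromSpecResidueField z w) = ξ
    rw [Scheme.fromSpecResidueField_apply, hz1]
  let t : G ⟶ Y := c ≫ i
  let W : 𝒰.I₀ → G.Opens := fun k => t ⁻¹ᵁ (U k).1
  have hloc : ∀ k (x : (W k).toScheme), ∃ φ : (W k).toScheme ⟶ F', φ ≫ s = (W k).ι ≫ c ∧
      ∀ ηk : Spec (CommRingCat.of Ω) ⟶ (W k).toScheme, ηk ≫ (W k).ι = η → ηk ≫ φ = ζ := by
    intro k x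
    obtain ⟨q, hq⟩ := hq k (Finset.mem_univ _)
    have hξW : ξ ∈ W k := ((genericPoint_spec G).specializes trivial).mem_open (W k).2 x.2
    haveI : Nonempty (W k).toScheme := ⟨⟨ξ, hξW⟩⟩
    haveI : IsIntegral (W k).toScheme := inferInstance
    have ht : (W k).ι ≫ ι ≫ pullback.snd i g ≫ q ≫ π k = (t ∣_ (U k).1) ≫ (U k).1.ι := by
      rw [hq, ← pullback.condition, morphismRestrict_ι]
      simp [t, c, W]
    let gk : (W k).toScheme ⟶ V k := (hsq k).lift ((W k).ι ≫ ι ≫ pullback.snd i g ≫ q) (t ∣_ (U k).1)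
      (by simpa using ht)
    have hgk : gk ≫ v k = t ∣_ (U k).1 := (hsq k).lift_snd _ _ _
    have hfin : IsFinite (gk ≫ v k) := by
      rw [hgk]
      haveI : IsFinite t := inferInstanceAs (IsFinite ((ι ≫ pullback.fst i g) ≫ i))
      exact MorphismProperty.of_isPullback (isPullback_morphismRestrict t (U k).1).flip inferInstance
    let ηk : Spec (CommRingCat.of Ω) ⟶ (W k).toScheme := IsOpenImmersion.lift (W k).ι η (by
      rintro _ ⟨w, rfl⟩
      rw [Scheme.Opens.range_ι, hηξ]
      exact hξW)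
    have hηk : ηk ≫ (W k).ι = η := IsOpenImmersion.lift_fac _ _ _
    haveI : IsDominant ηk := ⟨by
      have hgen : genericPoint (W k).toScheme ∈ Set.range ηk := by
        obtain ⟨w⟩ := (inferInstance : Nonempty (Spec (CommRingCat.of Ω)))
        refine ⟨w, (W k).ι.isOpenEmbedding.injective ?_⟩
        rw [genericPoint_eq_of_isOpenImmersion (W k).ι, ← Scheme.Hom.comp_apply, hηk, hηξ]
      exact dense_iff_closure_eq.2 (Set.eq_univ_of_univ_subset
        ((genericPoint_spec (W k).toScheme).ge.trans (closure_mono (Set.singleton_subset_iff.2 hgen))))⟩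
    obtain ⟨φ, hφp, hφη⟩ := hv3 k (W k).toScheme gk hfin Ω ηk inferInstance ζ (by
      rw [reassoc_of% hgk, morphismRestrict_ι, reassoc_of% hηk]
      show ζ ≫ s ≫ i = η ≫ c ≫ i
      rw [reassoc_of% hηs])
    refine ⟨φ, ?_, fun ηk' h => ?_⟩
    · rw [← cancel_mono i, Category.assoc, Category.assoc]
      rw [reassoc_of% hgk, morphismRestrict_ι] at hφp
      exact hφp
    · rw [show ηk' = ηk from (cancel_mono (W k).ι).1 (h.trans hηk.symm), hφη]
  have hcov : iSup W = ⊤ := eq_top_iff.2 fun x _ => by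
    obtain ⟨k, w, hw⟩ := 𝒰.exists_eq (t x)
    exact Opens.mem_iSup.2 ⟨k, ⟨w, hw⟩⟩
  choose kx hkx using fun x : G => Opens.mem_iSup.1 (hcov.ge (show x ∈ (⊤ : G.Opens) from trivial))
  choose φ hφs hφη using fun x : G => hloc (kx x) ⟨x, hkx x⟩
  let 𝒲 : G.OpenCover := G.openCoverOfIsOpenCover (fun x : G => W (kx x))
    (eq_top_iff.2 fun x _ => Opens.mem_iSup.2 ⟨x, hkx x⟩)
  refine ⟨𝒲.glueMorphisms φ (fun x x' => ?_), 𝒲.hom_ext _ _ fun x => ?_⟩
  · let P := pullback (W (kx x)).ι (W (kx x')).ι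
    have hξ : ∀ w, η w ∈ W (kx x) ∧ η w ∈ W (kx x') := fun w => by
      rw [hηξ]
      exact ⟨((genericPoint_spec G).specializes trivial).mem_open (W (kx x)).2 (hkx x),
        ((genericPoint_spec G).specializes trivial).mem_open (W (kx x')).2 (hkx x')⟩
    let η₁ := IsOpenImmersion.lift (W (kx x)).ι η (by
      rintro _ ⟨w, rfl⟩; rw [Scheme.Opens.range_ι]; exact (hξ w).1)
    let η₂ := IsOpenImmersion.lift (W (kx x')).ι η (by
      rintro _ ⟨w, rfl⟩; rw [Scheme.Opens.range_ι]; exact (hξ w).2)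
    let ηP : Spec (CommRingCat.of Ω) ⟶ P := pullback.lift η₁ η₂ (by simp [η₁, η₂])
    let m : P ⟶ G := pullback.fst _ _ ≫ (W (kx x)).ι
    haveI : AlgebraicGeometry.IsReduced P := isReduced_of_isOpenImmersion m
    haveI : IsDominant ηP := ⟨by
      intro w
      rw [m.isOpenEmbedding.isInducing.closure_eq_preimage_closure_image]
      show m w ∈ closure _
      have hm : ξ ∈ m '' Set.range ηP := by
        obtain ⟨v⟩ := (inferInstance : Nonempty (Spec (CommRingCat.of Ω)))
        refine ⟨ηP v, ⟨v, rfl⟩, ?_⟩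
        rw [← Scheme.Hom.comp_apply, show ηP ≫ m = η by simp [ηP, m, η₁], hηξ]
      exact closure_mono (Set.singleton_subset_iff.2 hm) ((genericPoint_spec G).ge trivial)⟩
    refine ext_of_isDominant_of_isSeparated (X := P) s ?_ ηP ?_
    · show (pullback.fst _ _ ≫ φ x) ≫ s = (pullback.snd _ _ ≫ φ x') ≫ s
      rw [Category.assoc, Category.assoc, hφs, hφs]
      exact pullback.condition_assoc c
    · show ηP ≫ pullback.fst _ _ ≫ φ x = ηP ≫ pullback.snd _ _ ≫ φ x'
      rw [pullback.lift_fst_assoc, pullback.lift_snd_assoc, hφη x _ (IsOpenImmersion.lift_fac _ _ _),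
        hφη x' _ (IsOpenImmersion.lift_fac _ _ _)]
  · rw [Scheme.Cover.ι_glueMorphisms_assoc]
    exact hφs x

end Groth.Agent.CompLift5
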